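import Cfsg.Agent.H155.J4K.Seven
import Cfsg.Agent.H735.J4C.Fin

/-!
# `J₄` has at least seven irreducible characters of degree prime to 11: final form (helper155)
-/

set_option autoImplicit false

open Cfsg Subgroup

namespace Cfsg.Agent.H155.J4K

open Cfsg.Agent.H735.J4C Cfsg.Agent.H265.J4LP

attribute [local instance] H877.IMJ4.finJ4

/-- seven irreducible characters of `J₄` of degree prime to 11 -/
theorem seven_J4 : 7 ≤ Nat.card {χ : IrrCharacter Spor.J4 // ¬ 11 ∣ charDegree (χ : Spor.J4 → ℂ)} := by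
  classical
  have hsim : IsSimpleGroup Spor.J4 := H877.IMJ4.simple
  have : Finite (IrrCharacter Spor.J4) := Cfsg.Agent.Characters.Core.finite_irr
  have : Fintype (IrrCharacter Spor.J4) := Fintype.ofFinite _
  obtain ⟨a, b, h11⟩ := H34.TI.cols11 El.eleven hN
  have h := card_ge H877.IMJ4.nonab hN H877.IMJ4.card_classes cents El.eleven.ord_z El.eleven.ord_x h11
  rw [Nat.card_eq_fintype_card, Fintype.card_subtype]
  exact h

universe u

/-- seven irreducible characters of degree prime to 11, for every group isomorphic to `J₄` -/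
theorem seven_iso {G : Type u} [Group G] (e : G ≃* Spor.J4) :
    7 ≤ Nat.card {χ : IrrCharacter G // ¬ 11 ∣ charDegree (χ : G → ℂ)} := by
  refine seven_J4.trans (le_of_eq (Nat.card_congr (Equiv.subtypeEquiv ?_ ?_)))
  · exact
      { toFun := fun ψ => ⟨(ψ : Spor.J4 → ℂ) ∘ e, Cfsg.Agent.Characters.Core.isIrr_comp e.toMonoidHom e.surjective ψ.2⟩
        invFun := fun η => ⟨(η : G → ℂ) ∘ e.symm,
          Cfsg.Agent.Characters.Core.isIrr_comp e.symm.toMonoidHom e.symm.surjective η.2⟩
        left_inv := fun ψ => Subtype.ext (funext fun n => congrArg (ψ : Spor.J4 → ℂ) (e.apply_symm_apply n))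
        right_inv := fun η => Subtype.ext (funext fun a => congrArg (η : G → ℂ) (e.symm_apply_apply a)) }
  · intro ψ
    have h : charDegree ((ψ : Spor.J4 → ℂ) ∘ e) = charDegree (ψ : Spor.J4 → ℂ) := by
      unfold charDegree
      rw [Function.comp_apply, map_one]
    show ¬ 11 ∣ charDegree (ψ : Spor.J4 → ℂ) ↔ ¬ 11 ∣ charDegree ((ψ : Spor.J4 → ℂ) ∘ e)
    rw [h]

end Cfsg.Agent.H155.J4K
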