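import Cfsg.Agent.H735.J4C.Main

/-!
# `J₄` has at least seven irreducible characters of degree prime to 11 (helper155)

A second certificate for the frame of helper735 and helper34 (without the columns of 7 and 5).
-/

set_option autoImplicit false
set_option linter.unusedSectionVars false
set_option maxRecDepth 100000
set_option maxHeartbeats 4000000

open Cfsg Subgroup

namespace Cfsg.Agent.H155.J4K

open Cfsg.Agent.Characters.Core Cfsg.Agent.H653.Sieve Cfsg.Agent.H735.Lin Cfsg.Agent.H735.J4C

universe u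

def C7 : Coef where
  M := [[],
    [.negSucc 10969455, .ofNat 1038115841, .ofNat 4878117938, .ofNat 2782881580, .negSucc 9359473973, .negSucc 44592891, .ofNat 1126201104],
    [.negSucc 10980505, .negSucc 1021935999, .negSucc 1847077518, .negSucc 2949042059, .ofNat 2930493, .ofNat 132745198],
    [.negSucc 4883332868, .negSucc 14650007320, .ofNat 19582275660, .ofNat 10432509, .negSucc 2653048260],
    [.negSucc 98592744, .ofNat 9789342401, .negSucc 17909665, .negSucc 2893151627],
    [.negSucc 9789263383, .ofNat 69532658, .ofNat 5666857650],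
    [.negSucc 813860, .negSucc 8771097],
    [.negSucc 435112948]]
  E := [.negSucc 3103739173, .ofNat 292485489775, .negSucc 9770326227]
  k := .ofNat 98421629
  o := .ofNat 31315220843
  RS := []
  RT := []
  ST := []

/-- The check for one degree. -/
def chkD' (PF : List (ℕ × List (ℕ × ℤ))) (C : Coef) (c : ℤ) (d : ℕ) : Bool :=
  allH d PF fun ws => allAB d fun a b =>
    decide (C.ev d ((d : ℤ) :: (ws ++ [a, b])) ws (0, 0) (0, 0) ≤ (bif Nat.beq (d % 11) 0 then 0 else c))

/-- The check for all degrees. -/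
def chk' (N : ℕ) (PF : List (ℕ × List (ℕ × ℤ))) (C : Coef) (c : ℤ) (L : List (ℕ × ℕ)) : Bool :=
  allDiv N (fun d => bif Nat.ble N (d * d) then true else chkD' PF C c d) L 1

theorem chk_C7 : chk' N PF C7 10000000000 L = true := by decide +kernel

section

variable {X : Type*} [Fintype X]

theorem evx_eq' (C : Coef) {d : X → ℕ} {A B : List (X → ℤ)} {s t : Fin 0 → X → ℤ} {x : X} :
    evx C d A B s t x = C.ev (d x) (val A x) (val B x) (0, 0) (0, 0) := by
  rw [evx, Coef.ev, lev_zero, lev_zero]
  simp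

/-- **The certificate.** -/
theorem tot_le_of_chk' (C : Coef) (c : ℤ) {N : ℕ} {L : List (ℕ × ℕ)} (hL : (L.all fun pa => Nat.Prime pa.1) = true)
    (hLN : facProd L = N) {PF : List (ℕ × List (ℕ × ℤ))}
    {d : X → ℕ} {Ws : List (X → ℤ)} {a b : X → ℤ} {s t : Fin 0 → X → ℤ}
    (hd : ∀ x, d x ∣ N) (hd2 : ∀ x, d x * d x < N)
    (hW : ∀ x, List.Forall₂ (fun (p : ℕ × List (ℕ × ℤ)) (w : ℤ) => (d x % p.1, w) ∈ p.2) PF (val Ws x))
    (hn : ∀ x, 242 * a x ^ 2 + 31944 * b x ^ 2 ≤ 7730448) (hab : ∀ x, (11 : ℤ) ∣ b x - a x)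
    (hdab : ∀ x, (1331 : ℤ) ∣ d x - (11 * b x - 10 * a x)) (hda : ∀ x, (d x : ℤ) ∣ 2716490453483520 * a x)
    (hdb : ∀ x, (d x : ℤ) ∣ 358576739859824640 * b x)
    {T : ℤ} (hT : ∑ x, evx C d ((fun x => (d x : ℤ)) :: (Ws ++ [a, b])) Ws s t x = T)
    (hc : chk' N PF C c L = true) :
    T ≤ c * (Finset.univ.filter fun x => ¬ 11 ∣ d x).card := by
  refine tot_le hT fun x => ?_
  have hpr : ∀ pa ∈ L, pa.1.Prime := by
    intro pa hpa
    have := List.all_eq_true.1 hL pa hpa
    simpa using this
  have h1 := allDiv_spec hpr hc (d x) (by rw [hLN]; exact hd x) (by rw [one_mul]; exact hd2 x)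
  have h2 : Nat.ble N (d x * d x) = false := by
    rw [Bool.eq_false_iff]
    intro h5
    exact absurd (Nat.le_of_ble_eq_true h5) (by have := hd2 x; omega)
  rw [one_mul, h2, cond_false, chkD'] at h1
  have h5 := allAB_spec (allH_spec h1 (hW x)) (hn x) (hab x) (hdab x) (hda x) (hdb x)
  rw [decide_eq_true_eq] at h5
  rw [evx_eq']
  have e1 : val ((fun x => (d x : ℤ)) :: (Ws ++ [a, b])) x = (d x : ℤ) :: (val Ws x ++ [a x, b x]) := by
    simp [val]
  rw [e1]
  refine h5.trans (le_of_eq ?_)
  by_cases h6 : 11 ∣ d x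
  · rw [if_neg (not_not.2 h6)]
    have h7 : Nat.beq (d x % 11) 0 = true := by
      rw [Nat.mod_eq_zero_of_dvd h6]
      rfl
    rw [h7, cond_true]
  · rw [if_pos h6]
    have h7 : Nat.beq (d x % 11) 0 = false := by
      rw [Bool.eq_false_iff]
      intro h8
      exact h6 (Nat.dvd_of_mod_eq_zero (Nat.eq_of_beq_eq_true h8))
    rw [h7, cond_false]

end

theorem tot_C7 (c c' : ℤ) (s t : Fin 0 → ℤ) (s' t' : Fin 0 → ℤ) (g : Fin 0 → Fin 0 → ℤ) :
    C7.tot 62 1 [86775571046077562880, 129, 111, 93, 29, 23, 31944, 242] [3, 3, 3, c, c'] s t s' t' g = 60160225274 := by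
  unfold Coef.tot
  simp only [Finset.univ_eq_empty, Finset.sum_empty, add_zero]
  rfl

variable {G : Type u} [Group G] [Finite G] [Fintype (IrrCharacter G)]

/-- **At least seven characters of degree prime to 11.** -/
theorem card_ge [IsSimpleGroup G] (hG : ¬ IsMulCommutative G) (hN : Nat.card G = N)
    (hk : Nat.card (ConjClasses G) = 62)
    (hc : ∀ p ∈ [43, 37, 31, 29, 23], ∃ x : G, orderOf x = p ∧ Nat.card (centralizer ({x} : Set G)) = p)
    {z x : G} (hz : orderOf z = 11) (hx : orderOf x = 11) {a b : IrrCharacter G → ℤ} (h11 : H34.TI.Cols11 z x a b) :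
    7 ≤ (Finset.univ.filter fun χ : IrrCharacter G => ¬ 11 ∣ charDegree (χ : G → ℂ)).card := by
  classical
  have := Fintype.ofFinite G
  obtain ⟨W0, m0, q0, c0, r0⟩ := prime_col hG (by norm_num) hN (hc 43 (by simp)) 14 3
    [(0, .ofNat 0), (1, .ofNat 3), (14, .negSucc 0), (29, .ofNat 1), (42, .negSucc 2)] 3 true (by decide +kernel)
  obtain ⟨W1, m1, q1, c1, r1⟩ := prime_col hG (by norm_num) hN (hc 37 (by simp)) 12 3
    [(0, .ofNat 0), (1, .ofNat 3), (12, .negSucc 0), (25, .ofNat 1), (36, .negSucc 2)] 3 true (by decide +kernel)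
  obtain ⟨W2, m2, q2, c2, r2⟩ := prime_col hG (by norm_num) hN (hc 31 (by simp)) 10 3
    [(0, .ofNat 0), (1, .ofNat 3), (10, .negSucc 0), (21, .ofNat 1), (30, .negSucc 2)] 3 true (by decide +kernel)
  obtain ⟨W3, m3, q3, -, r3⟩ := prime_col hG (by norm_num) hN (hc 29 (by simp)) 28 1
    [(0, .ofNat 0), (1, .ofNat 1), (28, .negSucc 0)] 0 false (by decide +kernel)
  obtain ⟨W4, m4, q4, -, r4⟩ := prime_col hG (by norm_num) hN (hc 23 (by simp)) 22 1
    [(0, .ofNat 0), (1, .ofNat 1), (22, .negSucc 0)] 0 false (by decide +kernel)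
  have md := deg_mem_Sp (G := G)
  have ma : (fun χ => (a χ : ℂ)) ∈ Sp G (fun n => n = 11) := by
    rw [funext h11.a_eq]
    exact mem_Sp z hz
  have mb : (fun χ => (b χ : ℂ)) ∈ Sp G (fun n => n = 11) := by
    rw [funext h11.b_eq]
    exact mem_Sp x hx
  have hA0 : Orth [(fun χ => (deg χ : ℤ)), W0, W1, W2, W3, W4, a, b]
      [86775571046077562880, 129, 111, 93, 29, 23, 31944, 242] := by
    refine .cons (by rw [sumsq, hN]; rfl) ?_ (.cons q0 ?_ (.cons q1 ?_ (.cons q2 ?_ (.cons q3 ?_ (.cons q4 ?_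
      (.cons h11.aa ?_ (.cons h11.bb ?_ .nil)))))))
    · intro W hW
      simp only [List.mem_cons, List.not_mem_nil, or_false] at hW
      rcases hW with rfl | rfl | rfl | rfl | rfl | rfl | rfl
      · exact orth_eq (by norm_num) md m0
      · exact orth_eq (by norm_num) md m1
      · exact orth_eq (by norm_num) md m2
      · exact orth_eq (by norm_num) md m3
      · exact orth_eq (by norm_num) md m4
      · exact orth_eq (by norm_num) md ma
      · exact orth_eq (by norm_num) md mb
    · intro W hW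
      simp only [List.mem_cons, List.not_mem_nil, or_false] at hW
      rcases hW with rfl | rfl | rfl | rfl | rfl | rfl
      · exact orth_eq (by norm_num) m0 m1
      · exact orth_eq (by norm_num) m0 m2
      · exact orth_eq (by norm_num) m0 m3
      · exact orth_eq (by norm_num) m0 m4
      · exact orth_eq (by norm_num) m0 ma
      · exact orth_eq (by norm_num) m0 mb
    · intro W hW
      simp only [List.mem_cons, List.not_mem_nil, or_false] at hW
      rcases hW with rfl | rfl | rfl | rfl | rfl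
      · exact orth_eq (by norm_num) m1 m2
      · exact orth_eq (by norm_num) m1 m3
      · exact orth_eq (by norm_num) m1 m4
      · exact orth_eq (by norm_num) m1 ma
      · exact orth_eq (by norm_num) m1 mb
    · intro W hW
      simp only [List.mem_cons, List.not_mem_nil, or_false] at hW
      rcases hW with rfl | rfl | rfl | rfl
      · exact orth_eq (by norm_num) m2 m3
      · exact orth_eq (by norm_num) m2 m4
      · exact orth_eq (by norm_num) m2 ma
      · exact orth_eq (by norm_num) m2 mb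
    · intro W hW
      simp only [List.mem_cons, List.not_mem_nil, or_false] at hW
      rcases hW with rfl | rfl | rfl
      · exact orth_eq (by norm_num) m3 m4
      · exact orth_eq (by norm_num) m3 ma
      · exact orth_eq (by norm_num) m3 mb
    · intro W hW
      simp only [List.mem_cons, List.not_mem_nil, or_false] at hW
      rcases hW with rfl | rfl
      · exact orth_eq (by norm_num) m4 ma
      · exact orth_eq (by norm_num) m4 mb
    · intro W hW
      simp only [List.mem_cons, List.not_mem_nil, or_false] at hW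
      rw [hW]
      exact h11.ab
    · intro W hW
      simp at hW
  have hA : Orth ((fun χ => (deg χ : ℤ)) :: ([W0, W1, W2, W3, W4] ++ [a, b]))
      [86775571046077562880, 129, 111, 93, 29, 23, 31944, 242] := hA0
  have hnp : ¬ (Nat.card G).Prime := by
    rw [hN, N]
    norm_num
  have hone : ∑ χ : IrrCharacter G, (bif Nat.beq (deg χ) 1 then (1 : ℤ) else 0) = 1 := by
    obtain ⟨χ₁, hχ₁⟩ : ∃ χ : IrrCharacter G, (χ : G → ℂ) = 1 := ⟨⟨1, isIrr_one⟩, rfl⟩
    have hd1 : deg χ₁ = 1 := by
      unfold deg charDegree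
      rw [hχ₁]
      simp
    rw [Finset.sum_eq_single χ₁]
    · rw [hd1]
      rfl
    · intro χ _ hχ
      have h1 : Nat.beq (deg χ) 1 = false := by
        rw [Bool.eq_false_iff]
        intro h2
        exact hχ (Subtype.ext ((one_of_deg hnp χ (Nat.eq_of_beq_eq_true h2)).trans hχ₁.symm))
      rw [h1]
      rfl
    · intro h
      exact absurd (Finset.mem_univ _) h
  have hcard : (Fintype.card (IrrCharacter G) : ℤ) = 62 := by
    rw [← Nat.card_eq_fintype_card, card_irr, hk]
    rfl
  have hd : ∀ χ : IrrCharacter G, deg χ ∣ N := by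
    intro χ
    rw [← hN]
    exact Blocks.Knorr.charDegree_dvd χ.2
  have hd2 : ∀ χ : IrrCharacter G, deg χ * deg χ < N := by
    intro χ
    obtain ⟨χ₁, hχ₁⟩ : ∃ χ : IrrCharacter G, (χ : G → ℂ) = 1 := ⟨⟨1, isIrr_one⟩, rfl⟩
    have hd1 : deg χ₁ = 1 := by
      unfold deg charDegree
      rw [hχ₁]
      simp
    by_cases hne : χ = χ₁
    · rw [hne, hd1, N]
      norm_num
    · have hsq := SmallSimple.DegreeData.sum_sq (G := G)
      have h4 : ∑ χ' ∈ ({χ, χ₁} : Finset (IrrCharacter G)), charDegree (χ' : G → ℂ) ^ 2 ≤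
          ∑ χ' : IrrCharacter G, charDegree (χ' : G → ℂ) ^ 2 := Finset.sum_le_sum_of_subset (Finset.subset_univ _)
      rw [Finset.sum_pair hne, hsq, hN] at h4
      have e1 : charDegree (χ : G → ℂ) = deg χ := rfl
      have e2 : charDegree (χ₁ : G → ℂ) = deg χ₁ := rfl
      rw [e1, e2, hd1, pow_two] at h4
      omega
  have main : ∀ T : ℤ, (∀ c c' : ℤ, C7.tot 62 1 [86775571046077562880, 129, 111, 93, 29, 23, 31944, 242] [3, 3, 3, c, c']
        (fun i : Fin 0 => i.elim0) (fun i => i.elim0) (fun i : Fin 0 => i.elim0) (fun i => i.elim0)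
        (fun i => i.elim0) = T) →
      T ≤ 10000000000 * (Finset.univ.filter fun χ : IrrCharacter G => ¬ 11 ∣ charDegree (χ : G → ℂ)).card := by
    intro T hTT
    have h1 := sum_evx (n := 0) (m := 0) C7 (d := fun χ : IrrCharacter G => deg χ) (B := [W0, W1, W2, W3, W4]) (s := fun i => i.elim0)
      (t := fun i => i.elim0) (sq := fun i => i.elim0) (ct := fun i => i.elim0) (sq' := fun i => i.elim0)
      (ct' := fun i => i.elim0) (g := fun i => i.elim0) hcard hone hA
      (.cons (c0 rfl) (.cons (c1 rfl) (.cons (c2 rfl) (.cons rfl (.cons rfl .nil)))))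
      (fun i => i.elim0) (fun i => i.elim0) (fun i => i.elim0) (fun i => i.elim0) (fun i => i.elim0) (fun i => i.elim0)
      (fun i => i.elim0)
    rw [hTT] at h1
    refine tot_le_of_chk' C7 10000000000 (L := L) (by decide +kernel) (by decide +kernel) hd hd2 (fun χ => ?_) h11.norm
      h11.cong (fun χ => h11.cong' χ) (fun χ => h11.dvd_a χ) (fun χ => h11.dvd_b χ) h1 chk_C7
    exact .cons (r0 χ) (.cons (r1 χ) (.cons (r2 χ) (.cons (r3 χ) (.cons (r4 χ) .nil))))
  have h1 := main 60160225274 (fun _ _ => tot_C7 _ _ _ _ _ _ _)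
  omega

end Cfsg.Agent.H155.J4K
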